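import Groth.Agent.GeomQuotLib.Descent
import Groth.Prelude.Def_W4bk4git07Quot

/-!
# Geometric quotients descend along fpqc base change
-/

set_option autoImplicit false
set_option backward.isDefEq.respectTransparency false
set_option linter.style.haveILetI false
set_option maxHeartbeats 1000000

universe u

open CategoryTheory CategoryTheory.Limits MonoidalCategory CartesianMonoidalCategory MonObj AlgebraicGeometry

namespace Groth.Agent.GeomQuotLib

theorem appTop_eq_appLE {X Y : Scheme.{u}} (f : X ⟶ Y) : f.appTop = f.appLE ⊤ ⊤ le_rfl := Scheme.Hom.app_eq_appLE f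

theorem appLE_congr {X Y : Scheme.{u}} {f g : X ⟶ Y} (h : f = g) {U : Y.Opens} {V : X.Opens}
    (e : V ≤ f ⁻¹ᵁ U) (e' : V ≤ g ⁻¹ᵁ U) : f.appLE U V e = g.appLE U V e' := by
  subst h; rfl

theorem bijective_appLE {X Y : Scheme.{u}} (g : X ⟶ Y) [IsOpenImmersion g] {U : Y.Opens} (hU : U ≤ g.opensRange)
    {V : X.Opens} (hV : V = g ⁻¹ᵁ U) : Function.Bijective (g.appLE U V hV.le) := by
  subst hV
  haveI := g.isIso_app U hU
  rw [← Scheme.Hom.app_eq_appLE]
  exact ConcreteCategory.bijective_of_isIso (g.app U)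

/-- Functions injective on all opens give scheme theoretic dominance. -/
theorem isSchemeTheoreticallyDominant_of_injective {X Y : Scheme.{u}} (f : X ⟶ Y) [QuasiCompact f]
    (h : ∀ U, Function.Injective (f.app U)) : IsSchemeTheoreticallyDominant f := by
  refine ⟨Scheme.IdealSheafData.ext (funext fun U => ?_)⟩
  rw [Scheme.Hom.ker_apply, (RingHom.injective_iff_ker_eq_bot _).mp (h U.1)]
  simp

/-- Functions pulled back from the target are invariant. -/
theorem isInvSection_app {S : Scheme.{u}} {G X Y : Over S} [GrpObj G] (a : AlgGrp.Action G X) (φ : X ⟶ Y)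
    (hinv : GIT.IsInvariant a φ) (U : Y.left.Opens) (s : Γ(Y.left, U)) :
    GIT.IsInvSection a φ U (φ.left.app U s) := by
  show a.act.left.appLE _ _ _ (φ.left.app U s) = (snd G X).left.appLE _ _ _ (φ.left.app U s)
  rw [Scheme.Hom.app_eq_appLE, ← CommRingCat.comp_apply, ← CommRingCat.comp_apply, Scheme.Hom.appLE_comp_appLE,
    Scheme.Hom.appLE_comp_appLE]
  exact congr($(appLE_congr hinv.left _ _) s)

/-- Two pullbacks of a function agree when they agree after pulling back along a dominant base change. -/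
theorem appLE_eq_of_dominant {X X' Y' T : Scheme.{u}} (φ' : X' ⟶ Y') [IsSchemeTheoreticallyDominant φ'] [QuasiCompact φ']
    (pr : X' ⟶ X) {U' : Y'.Opens} {O : X.Opens} (hO : φ' ⁻¹ᵁ U' ≤ pr ⁻¹ᵁ O) {s' : Γ(Y', U')} {f : Γ(X, O)}
    (hs' : φ'.app U' s' = pr.appLE O (φ' ⁻¹ᵁ U') hO f) (p₁ p₂ : T ⟶ Y') [Flat p₁]
    (hp₁ : ⊤ ≤ p₁ ⁻¹ᵁ U') (hp₂ : ⊤ ≤ p₂ ⁻¹ᵁ U')
    (r₂ : pullback p₁ φ' ⟶ X') (h₁ : r₂ ≫ φ' = pullback.fst p₁ φ' ≫ p₂) (h₂ : r₂ ≫ pr = pullback.snd p₁ φ' ≫ pr) :
    p₁.appLE U' ⊤ hp₁ s' = p₂.appLE U' ⊤ hp₂ s' := by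
  let q := pullback.fst p₁ φ'
  let r := pullback.snd p₁ φ'
  have hr : ⊤ ≤ r ⁻¹ᵁ (φ' ⁻¹ᵁ U') := fun z _ => by
    show φ' (r z) ∈ U'
    rw [← Scheme.Hom.comp_apply, ← pullback.condition, Scheme.Hom.comp_apply]
    exact hp₁ (Set.mem_univ (q z))
  have hr₂ : ⊤ ≤ r₂ ⁻¹ᵁ (φ' ⁻¹ᵁ U') := fun z _ => by
    show φ' (r₂ z) ∈ U'
    rw [← Scheme.Hom.comp_apply, h₁, Scheme.Hom.comp_apply]
    exact hp₂ (Set.mem_univ (q z))
  have hqinj : Function.Injective q.appTop := q.app_injective ⊤
  apply hqinj
  rw [appTop_eq_appLE, ← CommRingCat.comp_apply, ← CommRingCat.comp_apply, Scheme.Hom.appLE_comp_appLE,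
    Scheme.Hom.appLE_comp_appLE]
  have e1 : (q ≫ p₁).appLE U' ⊤ (fun z hz => hp₁ (Set.mem_univ (q z))) = φ'.app U' ≫ r.appLE (φ' ⁻¹ᵁ U') ⊤ hr := by
    rw [Scheme.Hom.app_eq_appLE, Scheme.Hom.appLE_comp_appLE]
    exact appLE_congr pullback.condition _ _
  have e2 : (q ≫ p₂).appLE U' ⊤ (fun z hz => hp₂ (Set.mem_univ (q z))) = φ'.app U' ≫ r₂.appLE (φ' ⁻¹ᵁ U') ⊤ hr₂ := by
    rw [Scheme.Hom.app_eq_appLE, Scheme.Hom.appLE_comp_appLE]
    exact appLE_congr h₁.symm _ _
  rw [e1, e2, CommRingCat.comp_apply, CommRingCat.comp_apply, hs', ← CommRingCat.comp_apply, ← CommRingCat.comp_apply,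
    Scheme.Hom.appLE_comp_appLE, Scheme.Hom.appLE_comp_appLE]
  exact congr($(appLE_congr h₂.symm _ _) f)

variable {S : Scheme.{u}} {G X Y X' Y' : Over S} [GrpObj G]

/-- Being a geometric quotient descends along fpqc base change of the quotient. -/
theorem isGeomQuot_of_fpqc (a : AlgGrp.Action G X) (φ : X ⟶ Y) (hinv : GIT.IsInvariant a φ) [QuasiCompact φ.left]
    (α : Y' ⟶ Y) [Flat α.left] [Surjective α.left] [QuasiCompact α.left]
    (pr : X' ⟶ X) (φ' : X' ⟶ Y') (hpb : IsPullback pr φ' φ α)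
    (a' : AlgGrp.Action G X') (heq : a'.act ≫ pr = (G ◁ pr) ≫ a.act)
    (h : GIT.IsGeomQuot a' φ') : GIT.IsGeomQuot a φ := by
  have hP : IsPullback pr.left φ'.left φ.left α.left := hpb.map (Over.forget S)
  haveI : QuasiCompact φ'.left := MorphismProperty.of_isPullback hP ‹QuasiCompact φ.left›
  haveI : Surjective pr.left := MorphismProperty.of_isPullback hP.flip ‹Surjective α.left›
  refine ⟨hinv, ?_, ?_, ?_, fun U => ?_⟩
  · intro y
    obtain ⟨y', rfl⟩ := α.left.surjective y
    obtain ⟨x', rfl⟩ := h.surj y'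
    exact ⟨pr.left x', by rw [← Scheme.Hom.comp_apply, ← Scheme.Hom.comp_apply, hP.w]⟩
  · -- orbits
    let P := pullback φ.left φ.left
    let p := pullback.fst φ.left φ.left
    let q := pullback.snd φ.left φ.left
    let m : pullback φ'.left φ'.left ⟶ P :=
      pullback.map _ _ _ _ pr.left pr.left α.left hP.w.symm hP.w.symm
    have hm : Function.Surjective m := by
      intro z
      let T := pullback (p ≫ φ.left) α.left
      haveI : Surjective (pullback.fst (p ≫ φ.left) α.left) := inferInstance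
      obtain ⟨w, rfl⟩ := (pullback.fst (p ≫ φ.left) α.left).surjective z
      let x₁ := hP.lift (pullback.fst (p ≫ φ.left) α.left ≫ p) (pullback.snd _ _) (by rw [Category.assoc]; exact pullback.condition)
      let x₂ := hP.lift (pullback.fst (p ≫ φ.left) α.left ≫ q) (pullback.snd _ _) (by
        rw [Category.assoc]
        exact (congrArg (pullback.fst (p ≫ φ.left) α.left ≫ ·) pullback.condition.symm).trans pullback.condition)
      refine ⟨pullback.lift x₁ x₂ (by rw [hP.lift_snd, hP.lift_snd]) w, ?_⟩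
      rw [← Scheme.Hom.comp_apply]
      refine congrArg (fun k : T ⟶ P => k w) ?_
      apply pullback.hom_ext
      · simp [m, x₁, p, pullback.map, pullback.lift_fst, pullback.lift_fst_assoc, hP.lift_fst]
      · simp [m, x₂, q, pullback.map, pullback.lift_snd, pullback.lift_snd_assoc, hP.lift_fst]
    have e : (G ◁ pr).left ≫ GIT.PsiY a φ hinv = GIT.PsiY a' φ' h.inv ≫ m := by
      have e1 : (G ◁ pr).left ≫ a.act.left = a'.act.left ≫ pr.left := by rw [← Over.comp_left, ← Over.comp_left, heq]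
      have e2 : (G ◁ pr).left ≫ (snd G X).left = (snd G X').left ≫ pr.left := by
        rw [← Over.comp_left, ← Over.comp_left, whiskerLeft_snd]
      apply pullback.hom_ext
      · simp only [GIT.PsiY, m, pullback.map, Category.assoc, pullback.lift_fst, pullback.lift_fst_assoc]
        exact e1
      · simp only [GIT.PsiY, m, pullback.map, Category.assoc, pullback.lift_snd, pullback.lift_snd_assoc]
        exact e2
    intro z
    obtain ⟨z', rfl⟩ := hm z
    obtain ⟨v, rfl⟩ := h.orbit z'
    refine ⟨(G ◁ pr).left v, ?_⟩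
    show (GIT.PsiY a φ hinv) ((G ◁ pr).left v) = m ((GIT.PsiY a' φ' h.inv) v)
    rw [← Scheme.Hom.comp_apply, e, Scheme.Hom.comp_apply]
  · -- submersive
    intro X₁ Y₁ i₁ i₂ f hf
    let t := pullback.fst i₂ α.left
    haveI : Flat t := inferInstance
    haveI : Surjective t := inferInstance
    haveI : QuasiCompact t := inferInstance
    let g := pullback.fst f t
    let f' := pullback.snd f t
    have hbig : IsPullback f' (g ≫ i₁) (t ≫ i₂) φ.left :=
      (IsPullback.of_hasPullback f t).flip.paste_vert hf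
    let l : pullback f t ⟶ X'.left := hP.lift (g ≫ i₁) (f' ≫ pullback.snd i₂ α.left) (by
      rw [Category.assoc, ← hf.w, pullback.condition_assoc, Category.assoc, pullback.condition])
    have hf' : IsPullback f' l (pullback.snd i₂ α.left) φ'.left := by
      refine IsPullback.of_bot (v₂₁ := pr.left) (v₂₂ := α.left) ?_ (hP.lift_snd _ _ _).symm hP.flip
      rw [show l ≫ pr.left = g ≫ i₁ from hP.lift_fst _ _ _, ← pullback.condition]
      exact hbig
    have hq : Topology.IsQuotientMap f' := h.subm _ _ _ hf'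
    have hqt : Topology.IsQuotientMap t := Flat.isQuotientMap_of_surjective t
    have hcomp : Topology.IsQuotientMap (f.base ∘ g.base) := by
      have : (f.base ∘ g.base : _ → _) = t.base ∘ f'.base := by
        funext z
        show f (g z) = t (f' z)
        rw [← Scheme.Hom.comp_apply, ← Scheme.Hom.comp_apply, pullback.condition]
      rw [this]
      exact hqt.comp hq
    exact Topology.IsQuotientMap.of_comp g.continuous f.continuous hcomp
  · -- sections
    let U' := α.left ⁻¹ᵁ U
    let O := φ.left ⁻¹ᵁ U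
    let O' := φ'.left ⁻¹ᵁ U'
    have hO : O' ≤ pr.left ⁻¹ᵁ O := fun z hz => by
      show φ.left (pr.left z) ∈ U
      rw [← Scheme.Hom.comp_apply, hP.w]
      exact hz
    obtain ⟨hinj', hrange'⟩ := h.sections U'
    let αU := α.left ∣_ U
    haveI : Surjective αU := IsZariskiLocalAtTarget.restrict ‹Surjective α.left› U
    haveI : QuasiCompact αU := IsZariskiLocalAtTarget.restrict ‹QuasiCompact α.left› U
    haveI : EffectiveEpi αU := inferInstance
    obtain ⟨hinjα, hdesc⟩ := app_descent αU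
    have hU : Function.Bijective (U.ι.appLE U ⊤ (Scheme.Opens.ι_preimage_self U).ge) :=
      bijective_appLE U.ι (by rw [Scheme.Opens.opensRange_ι]) (Scheme.Opens.ι_preimage_self U).symm
    have hU' : Function.Bijective (U'.ι.appLE U' ⊤ (Scheme.Opens.ι_preimage_self U').ge) :=
      bijective_appLE U'.ι (by rw [Scheme.Opens.opensRange_ι]) (Scheme.Opens.ι_preimage_self U').symm
    have hcomm : ∀ s, αU.appTop (U.ι.appLE U ⊤ (Scheme.Opens.ι_preimage_self U).ge s) =
        U'.ι.appLE U' ⊤ (Scheme.Opens.ι_preimage_self U').ge (α.left.app U s) := by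
      intro s
      rw [appTop_eq_appLE, Scheme.Hom.app_eq_appLE, ← CommRingCat.comp_apply, ← CommRingCat.comp_apply,
        Scheme.Hom.appLE_comp_appLE, Scheme.Hom.appLE_comp_appLE]
      exact congr($(appLE_congr (morphismRestrict_ι α.left U) _ _) s)
    have hsq : ∀ s, φ'.left.app U' (α.left.app U s) = pr.left.appLE O O' hO (φ.left.app U s) := by
      intro s
      rw [Scheme.Hom.app_eq_appLE, Scheme.Hom.app_eq_appLE, Scheme.Hom.app_eq_appLE, ← CommRingCat.comp_apply,
        ← CommRingCat.comp_apply, Scheme.Hom.appLE_comp_appLE, Scheme.Hom.appLE_comp_appLE]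
      exact congr($(appLE_congr hP.w.symm _ _) s)
    refine ⟨fun s₁ s₂ hs => hU.1 (hinjα ?_), ?_⟩
    · rw [hcomm, hcomm]
      congr 1
      exact hinj' (by rw [hsq, hsq, hs])
    ext f
    constructor
    · rintro ⟨s, rfl⟩
      exact isInvSection_app a φ hinv U s
    · intro (hf : GIT.IsInvSection a φ U f)
      have hf' : GIT.IsInvSection a' φ' U' (pr.left.appLE O O' hO f) := by
        let P' := a'.act.left ⁻¹ᵁ O' ⊓ (snd G X').left ⁻¹ᵁ O'
        let P := a.act.left ⁻¹ᵁ O ⊓ (snd G X).left ⁻¹ᵁ O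
        have e1 : a'.act.left ≫ pr.left = (G ◁ pr).left ≫ a.act.left := by rw [← Over.comp_left, ← Over.comp_left, heq]
        have e2 : (snd G X').left ≫ pr.left = (G ◁ pr).left ≫ (snd G X).left := by
          rw [← Over.comp_left, ← Over.comp_left, whiskerLeft_snd]
        have hPP : P' ≤ (G ◁ pr).left ⁻¹ᵁ P := by
          intro z hz
          refine ⟨?_, ?_⟩
          · show a.act.left ((G ◁ pr).left z) ∈ O
            rw [← Scheme.Hom.comp_apply, ← e1]
            exact hO hz.1
          · show (snd G X).left ((G ◁ pr).left z) ∈ O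
            rw [← Scheme.Hom.comp_apply, ← e2]
            exact hO hz.2
        show a'.act.left.appLE O' P' _ _ = (snd G X').left.appLE O' P' _ _
        rw [← CommRingCat.comp_apply, ← CommRingCat.comp_apply, Scheme.Hom.appLE_comp_appLE, Scheme.Hom.appLE_comp_appLE]
        refine (congr($(appLE_congr e1 _ (fun z hz => (hPP hz).1)) f)).trans
          (Eq.trans ?_ (congr($(appLE_congr e2 _ (fun z hz => (hPP hz).2)) f)).symm)
        rw [← Scheme.Hom.appLE_comp_appLE (G ◁ pr).left a.act.left O P P' inf_le_left hPP,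
            ← Scheme.Hom.appLE_comp_appLE (G ◁ pr).left (snd G X).left O P P' inf_le_right hPP,
            CommRingCat.comp_apply, CommRingCat.comp_apply]
        exact congrArg _ hf
      obtain ⟨s', hs'⟩ := hrange'.ge hf'
      haveI : IsSchemeTheoreticallyDominant φ'.left :=
        isSchemeTheoreticallyDominant_of_injective _ fun V => (h.sections V).1
      have key : ∀ (Z : Scheme.{u}) (g₁ g₂ : Z ⟶ U'.toScheme), g₁ ≫ αU = g₂ ≫ αU →
          g₁.appTop (U'.ι.appLE U' ⊤ (Scheme.Opens.ι_preimage_self U').ge s') =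
            g₂.appTop (U'.ι.appLE U' ⊤ (Scheme.Opens.ι_preimage_self U').ge s') := by
        suffices hu : (pullback.fst αU αU).appTop (U'.ι.appLE U' ⊤ (Scheme.Opens.ι_preimage_self U').ge s') =
            (pullback.snd αU αU).appTop (U'.ι.appLE U' ⊤ (Scheme.Opens.ι_preimage_self U').ge s') by
          intro Z g₁ g₂ he
          conv_lhs => rw [← pullback.lift_fst g₁ g₂ he]
          conv_rhs => rw [← pullback.lift_snd g₁ g₂ he]
          rw [Scheme.Hom.comp_appTop, Scheme.Hom.comp_appTop, CommRingCat.comp_apply, CommRingCat.comp_apply, hu]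
        let p₁ := pullback.fst αU αU ≫ U'.ι
        let p₂ := pullback.snd αU αU ≫ U'.ι
        haveI : Flat p₁ := inferInstance
        have hp : p₁ ≫ α.left = p₂ ≫ α.left := by
          show (pullback.fst αU αU ≫ U'.ι) ≫ α.left = (pullback.snd αU αU ≫ U'.ι) ≫ α.left
          rw [Category.assoc, Category.assoc, ← morphismRestrict_ι, ← Category.assoc, ← Category.assoc]
          exact congrArg (· ≫ U.ι) pullback.condition
        have hp₁ : (⊤ : Scheme.Opens _) ≤ p₁ ⁻¹ᵁ U' := fun z _ => (pullback.fst αU αU z).2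
        have hp₂ : (⊤ : Scheme.Opens _) ≤ p₂ ⁻¹ᵁ U' := fun z _ => (pullback.snd αU αU z).2
        have i1 : (pullback.fst αU αU).appTop (U'.ι.appLE U' ⊤ (Scheme.Opens.ι_preimage_self U').ge s') =
            p₁.appLE U' ⊤ hp₁ s' := by
          rw [appTop_eq_appLE, ← CommRingCat.comp_apply, Scheme.Hom.appLE_comp_appLE]
        have i2 : (pullback.snd αU αU).appTop (U'.ι.appLE U' ⊤ (Scheme.Opens.ι_preimage_self U').ge s') =
            p₂.appLE U' ⊤ hp₂ s' := by
          rw [appTop_eq_appLE, ← CommRingCat.comp_apply, Scheme.Hom.appLE_comp_appLE]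
        refine i1.trans (Eq.trans ?_ i2.symm)
        clear_value p₁ p₂ αU
        have hw : (pullback.snd p₁ φ'.left ≫ pr.left) ≫ φ.left = (pullback.fst p₁ φ'.left ≫ p₂) ≫ α.left := by
          rw [Category.assoc, Category.assoc, hP.w, ← hp]
          exact (pullback.condition_assoc (f := p₁) (g := φ'.left) α.left).symm
        exact appLE_eq_of_dominant φ'.left pr.left hO hs' p₁ p₂ hp₁ hp₂ (hP.lift _ _ hw) (hP.lift_snd _ _ hw)
          (hP.lift_fst _ _ hw)
      obtain ⟨t, ht⟩ := hdesc _ key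
      obtain ⟨s, rfl⟩ := hU.2 t
      refine ⟨s, ?_⟩
      rw [hcomm] at ht
      have hs : α.left.app U s = s' := hU'.1 ht
      have h2 : pr.left.appLE O O' hO (φ.left.app U s) = pr.left.appLE O O' hO f := by rw [← hsq, hs, hs']
      -- pullback along a surjective flat qc morphism is injective
      haveI : Flat pr.left := MorphismProperty.of_isPullback hP.flip ‹Flat α.left›
      haveI : QuasiCompact pr.left := MorphismProperty.of_isPullback hP.flip ‹QuasiCompact α.left›
      let prO := pr.left ∣_ O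
      haveI : Surjective prO := IsZariskiLocalAtTarget.restrict ‹Surjective pr.left› O
      haveI : QuasiCompact prO := IsZariskiLocalAtTarget.restrict ‹QuasiCompact pr.left› O
      haveI : EffectiveEpi prO := inferInstance
      have hOb : Function.Bijective (O.ι.appLE O ⊤ (Scheme.Opens.ι_preimage_self O).ge) :=
        bijective_appLE O.ι (by rw [Scheme.Opens.opensRange_ι]) (Scheme.Opens.ι_preimage_self O).symm
      refine hOb.1 ((app_descent prO).1 ?_)
      have hOeq : pr.left ⁻¹ᵁ O = O' := le_antisymm (fun z (hz : φ.left (pr.left z) ∈ U) => by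
        show φ'.left z ∈ α.left ⁻¹ᵁ U
        show α.left (φ'.left z) ∈ U
        rw [← Scheme.Hom.comp_apply, ← hP.w]
        exact hz) hO
      have key2 : ∀ v, prO.appTop (O.ι.appLE O ⊤ (Scheme.Opens.ι_preimage_self O).ge v) =
          (pr.left ⁻¹ᵁ O).ι.appLE O' ⊤ (fun z _ => hOeq.le z.2) (pr.left.appLE O O' hO v) := fun v => by
        rw [appTop_eq_appLE, ← CommRingCat.comp_apply, ← CommRingCat.comp_apply, Scheme.Hom.appLE_comp_appLE,
          Scheme.Hom.appLE_comp_appLE]
        exact congr($(appLE_congr (morphismRestrict_ι pr.left O) _ _) v)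
      rw [key2, key2, h2]

end Groth.Agent.GeomQuotLib
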