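import Mathlib

/-!
# Descent of functions along effective epimorphisms
-/

set_option autoImplicit false
set_option backward.isDefEq.respectTransparency false
set_option linter.style.haveILetI false

universe u

open CategoryTheory CategoryTheory.Limits AlgebraicGeometry Polynomial

namespace Groth.Agent.GeomQuotLib

/-- The affine line. -/
noncomputable def lineRing : CommRingCat.{u} := CommRingCat.of (Polynomial (ULift.{u} ℤ))

/-- The value of a map to the affine line. -/
noncomputable def val {Z : Scheme.{u}} (g : Z ⟶ Spec lineRing) : Γ(Z, ⊤) :=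
  g.appTop ((Scheme.ΓSpecIso lineRing).inv (Polynomial.X : Polynomial (ULift.{u} ℤ)))

theorem exists_val_eq {Z : Scheme.{u}} (f : Γ(Z, ⊤)) : ∃ g : Z ⟶ Spec lineRing, val g = f := by
  let φ : lineRing ⟶ Γ(Z, ⊤) :=
    CommRingCat.ofHom (Polynomial.eval₂RingHom ((Int.castRingHom Γ(Z, ⊤)).comp ULift.ringEquiv.toRingHom) f)
  refine ⟨Z.toSpecΓ ≫ Spec.map φ, ?_⟩
  unfold val
  rw [Scheme.Hom.comp_appTop, ← CommRingCat.comp_apply, ← Category.assoc, Scheme.toSpecΓ_appTop,
    ← Scheme.ΓSpecIso_inv_naturality, Category.assoc, Iso.inv_hom_id, Category.comp_id]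
  exact Polynomial.eval₂_X _ _

theorem ext_val {Z : Scheme.{u}} {g₁ g₂ : Z ⟶ Spec lineRing} (h : val g₁ = val g₂) : g₁ = g₂ := by
  refine ext_of_isAffine ?_
  rw [← cancel_epi (Scheme.ΓSpecIso lineRing).inv]
  refine CommRingCat.hom_ext (Polynomial.ringHom_ext' ?_ h)
  haveI : Subsingleton (ULift.{u} ℤ →+* Γ(Z, ⊤)) :=
    ⟨fun a b => RingHom.ext fun ⟨n⟩ => congr($(Subsingleton.elim (a.comp ULift.ringEquiv.symm.toRingHom)
      (b.comp ULift.ringEquiv.symm.toRingHom)) n)⟩
  exact Subsingleton.elim _ _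

theorem val_comp {W Z : Scheme.{u}} (p : W ⟶ Z) (g : Z ⟶ Spec lineRing) : val (p ≫ g) = p.appTop (val g) := by
  unfold val
  rw [Scheme.Hom.comp_appTop, CommRingCat.comp_apply]

/-- Functions descend along effective epimorphisms. -/
theorem app_descent {A B : Scheme.{u}} (h : A ⟶ B) [EffectiveEpi h] :
    Function.Injective h.appTop ∧ ∀ f : Γ(A, ⊤),
      (∀ (Z : Scheme.{u}) (g₁ g₂ : Z ⟶ A), g₁ ≫ h = g₂ ≫ h → g₁.appTop f = g₂.appTop f) →
        ∃ s, h.appTop s = f := by
  constructor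
  · intro s₁ s₂ hs
    obtain ⟨g₁, rfl⟩ := exists_val_eq s₁
    obtain ⟨g₂, rfl⟩ := exists_val_eq s₂
    rw [← val_comp, ← val_comp] at hs
    rw [(cancel_epi h).mp (ext_val hs)]
  · intro f hf
    obtain ⟨g, rfl⟩ := exists_val_eq f
    refine ⟨val (EffectiveEpi.desc h g fun {Z} g₁ g₂ he => ext_val ?_), ?_⟩
    · rw [val_comp, val_comp]
      exact hf Z g₁ g₂ he
    · rw [← val_comp, EffectiveEpi.fac]

end Groth.Agent.GeomQuotLib
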