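import Groth.Agent.GrpQuotLib.Orbit
import Groth.Prelude.Def_W4bk4git07Quot

/-!
# Actions with trivial stabilisers
-/

set_option autoImplicit false
set_option backward.isDefEq.respectTransparency false
set_option linter.style.haveILetI false

universe u

open CategoryTheory CategoryTheory.Limits MonoidalCategory CartesianMonoidalCategory MonObj AlgebraicGeometry

namespace Groth.Agent.GeomQuotLib

variable {S : Scheme.{u}} {G X : Over S} [GrpObj G]

theorem psi_id (a : AlgGrp.Action G X) : GIT.psi a (𝟙 X) = lift a.act (snd G X) := by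
  rw [GIT.psi, MonoidalCategory.whiskerLeft_id, Category.id_comp]

/-- If the stabiliser is trivial, then the shear map is a monomorphism. -/
theorem mono_psi (a : AlgGrp.Action G X)
    [Mono (pullback.snd (GIT.psi a (𝟙 X)).left (lift (𝟙 X) (𝟙 X)).left)] :
    Mono (GIT.psi a (𝟙 X)).left := by
  refine ⟨fun {T} p q hpq => ?_⟩
  let T' : Over S := Over.mk (p ≫ (G ⊗ X).hom)
  let p' : T' ⟶ G ⊗ X := Over.homMk p rfl
  let q' : T' ⟶ G ⊗ X := Over.homMk q (by
    show q ≫ (G ⊗ X).hom = p ≫ (G ⊗ X).hom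
    rw [← Over.w (GIT.psi a (𝟙 X)), reassoc_of% hpq])
  have hpq' : p' ≫ GIT.psi a (𝟙 X) = q' ≫ GIT.psi a (𝟙 X) := Over.OverMorphism.ext hpq
  rw [psi_id, comp_lift, comp_lift] at hpq'
  have hx : p' ≫ snd G X = q' ≫ snd G X := by
    have := congrArg (fun t => t ≫ snd X X) hpq'
    simpa using this
  have hact : p' ≫ a.act = q' ≫ a.act := by
    have := congrArg (fun t => t ≫ fst X X) hpq'
    simpa using this
  let x := p' ≫ snd G X
  let g := p' ≫ fst G X
  let h := q' ≫ fst G X
  have hgh : lift g x ≫ a.act = lift h x ≫ a.act := by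
    rw [show lift g x = p' by simp [g, x, ← comp_lift], show lift h x = q' by simp [h, x, hx, ← comp_lift]]
    exact hact
  have hst : lift (h⁻¹ * g) x ≫ a.act = x := by
    rw [GrpQuotLib.mul_smul, hgh, ← GrpQuotLib.mul_smul, inv_mul_cancel, GrpQuotLib.one_smul]
  -- points of the stabiliser
  have key : ∀ w : T' ⟶ G, lift w x ≫ a.act = x → (lift w x).left ≫ (GIT.psi a (𝟙 X)).left = x.left ≫ (lift (𝟙 X) (𝟙 X)).left := by
    intro w hw
    rw [← Over.comp_left, ← Over.comp_left, psi_id, comp_lift, hw, lift_snd, comp_lift, Category.comp_id]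
  have e := (cancel_mono (pullback.snd (GIT.psi a (𝟙 X)).left (lift (𝟙 X) (𝟙 X)).left)).mp
    ((pullback.lift_snd _ _ (key _ hst)).trans (pullback.lift_snd _ _ (key 1 (GrpQuotLib.one_smul a x))).symm)
  have e2 : (lift (h⁻¹ * g) x).left = (lift (1 : T' ⟶ G) x).left := by
    have := congrArg (· ≫ pullback.fst (GIT.psi a (𝟙 X)).left (lift (𝟙 X) (𝟙 X)).left) e
    simpa only [pullback.lift_fst] using this
  have e3 : h⁻¹ * g = 1 := by
    have := congrArg (fun t => t ≫ fst G X) (Over.OverMorphism.ext e2 : lift (h⁻¹ * g) x = lift (1 : T' ⟶ G) x)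
    simpa using this
  have e4 : g = h := by
    rw [inv_mul_eq_one] at e3
    exact e3.symm
  have e5 : p' = q' := CartesianMonoidalCategory.hom_ext _ _ e4 hx
  exact congrArg (fun t => Over.Hom.left t) e5

end Groth.Agent.GeomQuotLib
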