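import Groth.Agent.FpqcDesc.Topo
import Groth.Agent.GrpQuotLib.Orbit
import Groth.Prelude.Def_W4bk4git07Quot

/-!
# Geometric quotients by universally open groups are universally open
-/

set_option autoImplicit false
set_option backward.isDefEq.respectTransparency false
set_option linter.style.haveILetI false

universe u

open CategoryTheory CategoryTheory.Limits MonoidalCategory CartesianMonoidalCategory MonObj AlgebraicGeometry

namespace Groth.Agent.GeomQuotLib

variable {S : Scheme.{u}} {G X Y : Over S} [GrpObj G]

/-- An action map is universally open when the group is. -/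
theorem universallyOpen_act (a : AlgGrp.Action G X) [UniversallyOpen G.hom] : UniversallyOpen a.act.left := by
  have h1 : lift (fst G X) (snd G X) ≫ a.act = a.act := by simp
  have e1 : lift (fst G X)⁻¹ a.act ≫ a.act = snd G X := by
    rw [show lift (fst G X)⁻¹ a.act = lift (fst G X)⁻¹ (lift (fst G X) (snd G X) ≫ a.act) by rw [h1],
      ← GrpQuotLib.mul_smul, inv_mul_cancel, GrpQuotLib.one_smul]
  have e2 : lift (fst G X) (lift (fst G X)⁻¹ (snd G X) ≫ a.act) ≫ a.act = snd G X := by
    rw [← GrpQuotLib.mul_smul, mul_inv_cancel, GrpQuotLib.one_smul]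
  let e : G ⊗ X ≅ G ⊗ X :=
    { hom := lift (fst G X) a.act
      inv := lift (fst G X) (lift (fst G X)⁻¹ (snd G X) ≫ a.act)
      hom_inv_id := by
        refine CartesianMonoidalCategory.hom_ext _ _ ?_ ?_
        · rw [Category.assoc, lift_fst, lift_fst, Category.id_comp]
        · rw [Category.assoc, lift_snd, comp_lift_assoc, GrpObj.comp_inv, lift_fst, lift_snd, Category.id_comp, e1]
      inv_hom_id := by
        refine CartesianMonoidalCategory.hom_ext _ _ ?_ ?_
        · rw [Category.assoc, lift_fst, lift_fst, Category.id_comp]
        · rw [Category.assoc, lift_snd, Category.id_comp, e2] }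
  haveI : UniversallyOpen (snd G X).left := inferInstanceAs (UniversallyOpen (pullback.snd G.hom X.hom))
  haveI : IsIso e.hom.left := ((Over.forget S).mapIso e).isIso_hom
  have h2 : a.act.left = e.hom.left ≫ (snd G X).left := by rw [← Over.comp_left, lift_snd]
  rw [h2]
  infer_instance

/-- Geometric quotients by universally open groups are universally open. -/
theorem universallyOpen_of_isGeomQuot [UniversallyOpen G.hom] (a : AlgGrp.Action G X) (φ : X ⟶ Y)
    (h : GIT.IsGeomQuot a φ) : UniversallyOpen φ.left := by
  haveI := universallyOpen_act a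
  haveI : Surjective (GIT.PsiY a φ h.inv) := ⟨h.orbit⟩
  haveI hfst : UniversallyOpen (pullback.fst φ.left φ.left) := by
    have e : GIT.PsiY a φ h.inv ≫ pullback.fst φ.left φ.left = a.act.left := pullback.lift_fst _ _ _
    haveI : UniversallyOpen (GIT.PsiY a φ h.inv ≫ pullback.fst φ.left φ.left) := by rw [e]; infer_instance
    exact SchTopo.universallyOpen_of_surjective_comp (GIT.PsiY a φ h.inv) _
  refine ⟨MorphismProperty.universally_mk' _ _ fun {T} g _ W hW => ?_⟩
  let f := pullback.fst g φ.left
  have hq : Topology.IsQuotientMap f := h.subm _ _ _ (IsPullback.of_hasPullback g φ.left)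
  rw [← hq.isOpen_preimage]
  let l : pullback f f ⟶ pullback φ.left φ.left :=
    pullback.lift (pullback.fst f f ≫ pullback.snd g φ.left) (pullback.snd f f ≫ pullback.snd g φ.left) (by
      rw [Category.assoc, Category.assoc, ← pullback.condition, ← Category.assoc, ← Category.assoc, pullback.condition])
  have hbig : IsPullback (pullback.fst f f) (pullback.snd f f ≫ pullback.snd g φ.left) (f ≫ g) φ.left :=
    (IsPullback.of_hasPullback f f).paste_vert (IsPullback.of_hasPullback g φ.left)
  have hsq : IsPullback (pullback.fst f f) l (pullback.snd g φ.left) (pullback.fst φ.left φ.left) := by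
    refine IsPullback.of_bot (v₂₁ := pullback.snd φ.left φ.left) (v₂₂ := φ.left) ?_ (pullback.lift_fst _ _ _).symm
      (IsPullback.of_hasPullback φ.left φ.left)
    rw [show l ≫ pullback.snd φ.left φ.left = pullback.snd f f ≫ pullback.snd g φ.left from pullback.lift_snd _ _ _,
      ← pullback.condition]
    exact hbig
  haveI : UniversallyOpen (pullback.fst f f) := MorphismProperty.of_isPullback hsq.flip hfst
  have e : f ⁻¹' (f '' W) = pullback.fst f f '' (pullback.snd f f ⁻¹' W) := by
    ext x
    constructor
    · rintro ⟨w, hw, hwx⟩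
      obtain ⟨z, h1, h2⟩ := Scheme.exists_preimage_of_isPullback (IsPullback.of_hasPullback f f) x w hwx.symm
      exact ⟨z, by rw [Set.mem_preimage, h2]; exact hw, h1⟩
    · rintro ⟨z, hz, rfl⟩
      exact ⟨_, hz, by rw [← Scheme.Hom.comp_apply, ← Scheme.Hom.comp_apply, pullback.condition]⟩
  rw [e]
  exact (pullback.fst f f).isOpenMap _ (hW.preimage (pullback.snd f f).continuous)

end Groth.Agent.GeomQuotLib
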